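import Groth.Prelude.Def_NonAbH2
import Mathlib.AlgebraicGeometry.Sites.Fpqc

/-!
# Exact sequences of group schemes: kernels and descent of invariant morphisms
-/

set_option autoImplicit false
universe u

open CategoryTheory CategoryTheory.Limits AlgebraicGeometry MonoidalCategory CartesianMonoidalCategory MonObj Opposite

namespace Groth.Agent.H28SGA7

variable {S : Scheme.{u}} {P G E : Over S} [GrpObj P] [GrpObj G] [GrpObj E] {u : G ⟶ E} {v : E ⟶ P}

theorem comp_mul_u (hex : NonAbH1.IsExactSeq Scheme.fppfPrecoverage u v) {T : Over S} (x : T ⟶ E) (g : T ⟶ G) :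
    lift x g ≫ (E ◁ u) ≫ μ[E] = x * (g ≫ u) := by
  rw [Hom.mul_def, lift_whiskerLeft_assoc]

/-- Two points with the same image differ by a unique point of the kernel. -/
theorem exists_unique_mul (hex : NonAbH1.IsExactSeq Scheme.fppfPrecoverage u v) {T : Over S} (x y : T ⟶ E)
    (h : x ≫ v = y ≫ v) : ∃! g : T ⟶ G, x * (g ≫ u) = y := by
  obtain ⟨-, -, -, hP, -⟩ := hex
  refine ⟨hP.lift x y h ≫ snd _ _, ?_, fun g hg => ?_⟩
  · have h1 : lift x (hP.lift x y h ≫ snd _ _) = hP.lift x y h := by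
      refine CartesianMonoidalCategory.hom_ext _ _ ?_ (by rw [lift_snd])
      rw [lift_fst]; exact (hP.lift_fst _ _ _).symm
    show x * _ = y
    rw [Hom.mul_def, ← lift_whiskerLeft_assoc, h1]
    exact hP.lift_snd _ _ _
  · have h2 : lift x g = hP.lift x y h := by
      refine hP.hom_ext ?_ ?_
      · rw [lift_fst, hP.lift_fst]
      · rw [hP.lift_snd, lift_whiskerLeft_assoc, ← hg, Hom.mul_def]
    rw [← h2, lift_snd]

/-- Points of `E` trivial in `P` come from `G`. -/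
theorem exists_unique_kernel (hex : NonAbH1.IsExactSeq Scheme.fppfPrecoverage u v) {T : Over S} (y : T ⟶ E)
    (h : y ≫ v = 1) : ∃! g : T ⟶ G, g ≫ u = y := by
  haveI : IsMonHom v := hex.2.1
  simpa using exists_unique_mul hex (1 : T ⟶ E) y (by rw [MonObj.one_comp, h])

theorem kernel_injective (hex : NonAbH1.IsExactSeq Scheme.fppfPrecoverage u v) {T : Over S} {a b : T ⟶ G}
    (h : a ≫ u = b ≫ u) : a = b := by
  haveI : IsMonHom u := hex.1
  haveI : IsMonHom v := hex.2.1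
  have hv : (b ≫ u) ≫ v = 1 := by rw [Category.assoc, hex.2.2.1, MonObj.comp_one]
  exact (exists_unique_kernel hex (b ≫ u) hv).unique h rfl

/-- A morphism invariant on the fibres of `v` descends. -/
theorem exists_descend (hex : NonAbH1.IsExactSeq Scheme.fppfPrecoverage u v) {X M : Over S} (φ : E ⊗ X ⟶ M)
    (hφ : ∀ (T : Over S) (x x' : T ⟶ E) (z : T ⟶ X), x ≫ v = x' ≫ v → lift x z ≫ φ = lift x' z ≫ φ) :
    ∃ ψ : P ⊗ X ⟶ M, ∀ (T : Over S) (x : T ⟶ E) (z : T ⟶ X), lift (x ≫ v) z ≫ ψ = lift x z ≫ φ := by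
  obtain ⟨-, -, -, -, R, hR, hsec⟩ := hex
  let J := Scheme.fppfTopology.{u}
  let R₀ : Sieve P.left := Sieve.generate R
  have hR₀ : R₀ ∈ J P.left := Precoverage.generate_mem_toGrothendieck hR
  let pr : (P ⊗ X).left ⟶ P.left := (fst P X).left
  let R' : Sieve (P ⊗ X).left := R₀.pullback pr
  have hR' : R' ∈ J _ := J.pullback_stable pr hR₀
  have hlift : ∀ {W : Scheme.{u}} (h : W ⟶ (P ⊗ X).left), R' h →
      ∃ x : Over.mk (h ≫ (P ⊗ X).hom) ⟶ E,
        x ≫ v = (Over.homMk h : Over.mk (h ≫ (P ⊗ X).hom) ⟶ P ⊗ X) ≫ fst P X := by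
    rintro W h ⟨W', a, f, hf, he⟩
    obtain ⟨σ, hσ⟩ := hsec f hf
    have hσ' : σ ≫ v.left = f := hσ
    refine ⟨Over.homMk (a ≫ σ) ?_, Over.OverMorphism.ext ?_⟩
    · show (a ≫ σ) ≫ E.hom = h ≫ (P ⊗ X).hom
      rw [← Over.w v, Category.assoc, reassoc_of% hσ', ← Category.assoc, he, Category.assoc, Over.w (fst P X)]
    · show (a ≫ σ) ≫ v.left = h ≫ (fst P X).left
      rw [Category.assoc, hσ', he]
  let val : ∀ {W : Scheme.{u}} (h : W ⟶ (P ⊗ X).left), R' h → (W ⟶ M.left) := fun {W} h hh =>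
    (lift (hlift h hh).choose ((Over.homMk h : Over.mk (h ≫ (P ⊗ X).hom) ⟶ P ⊗ X) ≫ snd P X) ≫ φ).left
  have key : ∀ {T : Over S} (x : T ⟶ E) (z : T ⟶ X) {W : Scheme.{u}} (w : W ⟶ T.left)
      (hh : R' (w ≫ (lift (x ≫ v) z).left)), val _ hh = w ≫ (lift x z ≫ φ).left := by
    intro T x z W w hh
    let h := w ≫ (lift (x ≫ v) z).left
    let W₀ : Over S := Over.mk (h ≫ (P ⊗ X).hom)
    let w₀ : W₀ ⟶ T := Over.homMk w (by
      show w ≫ T.hom = h ≫ (P ⊗ X).hom
      rw [Category.assoc, Over.w])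
    have hmk : (Over.homMk h : W₀ ⟶ P ⊗ X) = w₀ ≫ lift (x ≫ v) z := Over.OverMorphism.ext rfl
    have h1 : (hlift h hh).choose ≫ v = (w₀ ≫ x) ≫ v := by
      rw [(hlift h hh).choose_spec]
      show (Over.homMk h : W₀ ⟶ P ⊗ X) ≫ fst P X = _
      rw [hmk, Category.assoc, lift_fst, Category.assoc]
    have h2 : (Over.homMk h : W₀ ⟶ P ⊗ X) ≫ snd P X = w₀ ≫ z := by
      rw [hmk, Category.assoc, lift_snd]
    show (lift (hlift h hh).choose ((Over.homMk h : W₀ ⟶ P ⊗ X) ≫ snd P X) ≫ φ).left = _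
    rw [hφ W₀ _ (w₀ ≫ x) _ h1, h2, ← comp_lift]
    exact congrArg (fun q : W₀ ⟶ M => q.left) (Category.assoc w₀ (lift x z) φ)
  let fam : Presieve.FamilyOfElements (yoneda.obj M.left) R'.arrows := fun W h hh => val h hh
  have hcomp : fam.Compatible := by
    rw [Presieve.compatible_iff_sieveCompatible]
    intro W V h g hh
    show val (g ≫ h) (R'.downward_closed hh g) = g ≫ val h hh
    let T : Over S := Over.mk (h ≫ (P ⊗ X).hom)
    let m : T ⟶ P ⊗ X := Over.homMk h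
    have hx := (hlift h hh).choose_spec
    have hm : h = (lift ((hlift h hh).choose ≫ v) (m ≫ snd P X)).left := by
      have : lift ((hlift h hh).choose ≫ v) (m ≫ snd P X) = m := by
        refine CartesianMonoidalCategory.hom_ext _ _ ?_ ?_
        · rw [lift_fst]; exact hx
        · rw [lift_snd]
      rw [this]
      rfl
    have := key (hlift h hh).choose (m ≫ snd P X) g (hm ▸ R'.downward_closed hh g)
    have hval : ∀ (a b : V ⟶ (P ⊗ X).left) (e : a = b) (ha : R' a) (hb : R' b), val a ha = val b hb := by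
      rintro a _ rfl _ _
      rfl
    exact (hval _ _ (congrArg (g ≫ ·) hm) (R'.downward_closed hh g) (hm ▸ R'.downward_closed hh g)).trans this
  have hsheaf : ∀ (Y : Scheme.{u}), Presieve.IsSheaf J (yoneda.obj Y) := fun Y =>
    GrothendieckTopology.Subcanonical.isSheaf_of_isRepresentable _
  let ψ₀ : (P ⊗ X).left ⟶ M.left := (hsheaf M.left R' hR').amalgamate fam hcomp
  have hψ₀ : ∀ {W : Scheme.{u}} (h : W ⟶ (P ⊗ X).left) (hh : R' h), h ≫ ψ₀ = val h hh :=
    fun h hh => (hsheaf M.left R' hR').valid_glue hcomp h hh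
  have hover : ψ₀ ≫ M.hom = (P ⊗ X).hom := (hsheaf S R' hR').isSeparatedFor.ext fun W h hh => by
    show h ≫ ψ₀ ≫ M.hom = h ≫ (P ⊗ X).hom
    rw [reassoc_of% (hψ₀ h hh)]
    exact Over.w (lift (hlift h hh).choose _ ≫ φ)
  refine ⟨Over.homMk ψ₀ hover, fun T x z => Over.OverMorphism.ext ?_⟩
  refine (hsheaf M.left _ (J.pullback_stable (lift (x ≫ v) z).left hR')).isSeparatedFor.ext fun W w hw => ?_
  show w ≫ (lift (x ≫ v) z).left ≫ ψ₀ = w ≫ (lift x z ≫ φ).left
  rw [← Category.assoc, hψ₀ _ hw]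
  exact key x z w hw

/-- Morphisms out of `P ⊗ X` are determined on the points coming from `E`. -/
theorem ext_descend (hex : NonAbH1.IsExactSeq Scheme.fppfPrecoverage u v) {X M : Over S} {ψ ψ' : P ⊗ X ⟶ M}
    (h : ∀ (T : Over S) (x : T ⟶ E) (z : T ⟶ X), lift (x ≫ v) z ≫ ψ = lift (x ≫ v) z ≫ ψ') : ψ = ψ' := by
  obtain ⟨-, -, -, -, R, hR, hsec⟩ := hex
  let J := Scheme.fppfTopology.{u}
  let pr : (P ⊗ X).left ⟶ P.left := (fst P X).left
  have hR' : (Sieve.generate R).pullback pr ∈ J _ :=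
    J.pullback_stable pr (Precoverage.generate_mem_toGrothendieck hR)
  have hsheaf : Presieve.IsSheaf J (yoneda.obj M.left) :=
    GrothendieckTopology.Subcanonical.isSheaf_of_isRepresentable _
  refine Over.OverMorphism.ext ((hsheaf _ hR').isSeparatedFor.ext fun W w hw => ?_)
  obtain ⟨W', a, f, hf, he⟩ := hw
  obtain ⟨σ, hσ⟩ := hsec f hf
  have hσ' : σ ≫ v.left = f := hσ
  let T : Over S := Over.mk (w ≫ (P ⊗ X).hom)
  let m : T ⟶ P ⊗ X := Over.homMk w
  let x : T ⟶ E := Over.homMk (a ≫ σ) (by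
    show (a ≫ σ) ≫ E.hom = w ≫ (P ⊗ X).hom
    rw [← Over.w v, Category.assoc, reassoc_of% hσ', ← Category.assoc, he, Category.assoc, Over.w (fst P X)])
  have hx : x ≫ v = m ≫ fst P X := by
    refine Over.OverMorphism.ext ?_
    show (a ≫ σ) ≫ v.left = w ≫ (fst P X).left
    rw [Category.assoc, hσ', he]
  have hm : lift (x ≫ v) (m ≫ snd P X) = m := by
    refine CartesianMonoidalCategory.hom_ext _ _ ?_ ?_
    · rw [lift_fst, hx]
    · rw [lift_snd]
  have := h T x (m ≫ snd P X)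
  rw [hm] at this
  exact congrArg (fun q : T ⟶ M => q.left) this

theorem epi_of_exact (hex : NonAbH1.IsExactSeq Scheme.fppfPrecoverage u v) : Epi v := by
  refine ⟨fun {M} a b h => ?_⟩
  have := ext_descend hex (X := 𝟙_ (Over S)) (ψ := fst _ _ ≫ a) (ψ' := fst _ _ ≫ b) fun T x z => by
    rw [lift_fst_assoc, lift_fst_assoc, Category.assoc, Category.assoc, h]
  simpa using congrArg (lift (𝟙 P) (toUnit P) ≫ ·) this

end Groth.Agent.H28SGA7
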