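import Mathlib
import Groth.Agent.H7Flat.FlatTransfer
import Groth.Prelude.Def_SGA7IX

/-!
# Valuation rings over a henselian discrete valuation ring
-/

set_option autoImplicit false
set_option linter.style.haveILetI false
universe u
open IsLocalRing

namespace Groth.Agent.H28SGA7.HenselW

variable {R K Ω : Type u} [CommRing R] [IsDomain R] [IsDiscreteValuationRing R] [Field K]
  [Algebra R K] [IsFractionRing R K] [Field Ω] [Algebra K Ω] [Algebra R Ω] [IsScalarTower R K Ω]

omit [IsDiscreteValuationRing R] [IsFractionRing R K] in
theorem mem_of_isIntegral [IsLocalRing R] {W : ValuationSubring Ω} (hW : SGA7.LiesOver K R W) {a : Ω}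
    (ha : IsIntegral R a) : a ∈ W := by
  let ψ : R →+* W := (algebraMap R Ω).codRestrict W.toSubring fun r => by
    rw [IsScalarTower.algebraMap_apply R K Ω]; exact hW.1 r
  letI : Algebra R W := ψ.toAlgebra
  haveI : IsScalarTower R W Ω := IsScalarTower.of_algebraMap_eq fun r => rfl
  have hint : IsIntegral W a := ha.tower_top
  obtain ⟨w, rfl⟩ := IsIntegrallyClosed.isIntegral_iff.1 hint
  exact w.2

variable [HenselianLocalRing R] [IsSepClosure K Ω]

/-- A valuation subring of a separable closure lying over a henselian discrete valuation ring is the
integral closure. -/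
theorem mem_iff_isIntegral {W : ValuationSubring Ω} (hW : SGA7.LiesOver K R W) (a : Ω) :
    a ∈ W ↔ IsIntegral R a := by
  refine ⟨fun ha => ?_, mem_of_isIntegral hW⟩
  haveI : Algebra.IsSeparable K Ω := IsSepClosure.separable
  let E : IntermediateField K Ω := IntermediateField.adjoin K {a}
  haveI : FiniteDimensional K E :=
    IntermediateField.adjoin.finiteDimensional (Algebra.IsSeparable.isSeparable K a).isIntegral
  haveI : Algebra.IsSeparable K E := Algebra.isSeparable_tower_bot_of_isSeparable K E Ω
  haveI : IsDedekindDomain (integralClosure R E) := IsIntegralClosure.isDedekindDomain R K E _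
  haveI : IsLocalRing (integralClosure R E) := Groth.Agent.H7Flat.FlatTransfer.isLocalRing_integralClosure R E
  haveI : IsFractionRing (integralClosure R E) E :=
    IsIntegralClosure.isFractionRing_of_finite_extension R K E (integralClosure R E)
  haveI : IsBezout (integralClosure R E) := inferInstance
  haveI : ValuationRing (integralClosure R E) :=
    ((ValuationRing.iff_local_bezout_domain).2 ⟨inferInstance, inferInstance⟩)
  have hB : ∀ b : integralClosure R E, ((b : E) : Ω) ∈ W := fun b =>
    mem_of_isIntegral hW (b.2.map (IntermediateField.val E |>.restrictScalars R))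
  let e : E := ⟨a, IntermediateField.mem_adjoin_simple_self K a⟩
  rcases eq_or_ne a 0 with rfl | ha0
  · exact isIntegral_zero
  rcases ValuationRing.isInteger_or_isInteger (integralClosure R E) e with ⟨b, hb⟩ | ⟨b, hb⟩
  · have := b.2.map (IntermediateField.val E |>.restrictScalars R)
    rw [show (b : E) = e from hb] at this
    exact this
  · by_cases hbu : IsUnit b
    · obtain ⟨c, hc⟩ := isUnit_iff_exists_inv.1 hbu
      have hce : (c : E) = e := by
        have h1 : (b : E) * c = 1 := by exact_mod_cast congrArg Subtype.val hc
        rw [show (b : E) = e⁻¹ from hb] at h1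
        by_cases he : e = 0
        · simp [he] at h1
        · field_simp at h1
          exact h1
      have := c.2.map (IntermediateField.val E |>.restrictScalars R)
      rw [hce] at this
      exact this
    exfalso
    let φ : integralClosure R E →+* W :=
      ((IntermediateField.val E).toRingHom.comp (integralClosure R E).val.toRingHom).codRestrict
        W.toSubring hB
    let P := (maximalIdeal W).comap φ
    haveI : P.IsPrime := Ideal.comap_isPrime φ _
    have hP : P.comap (algebraMap R (integralClosure R E)) = maximalIdeal R := by
      refine ((maximalIdeal.isMaximal R).eq_of_le (Ideal.IsPrime.ne_top inferInstance) fun r hr => ?_).symm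
      show φ (algebraMap R _ r) ∈ maximalIdeal W
      refine (W.valuation_lt_one_iff _).2 ?_
      have := hW.2 r hr
      rw [← IsScalarTower.algebraMap_apply R K Ω] at this
      exact this
    haveI : P.IsMaximal := Ideal.isMaximal_of_isIntegral_of_isMaximal_comap P (by rw [hP]; infer_instance)
    have hbP : φ b ∈ maximalIdeal W := by
      show b ∈ P
      rw [IsLocalRing.eq_maximalIdeal (I := P) inferInstance]
      exact hbu
    have hlt := (W.valuation_lt_one_iff (φ b)).1 hbP
    have hba : ((φ b : W) : Ω) = a⁻¹ := by
      show ((b : E) : Ω) = a⁻¹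
      rw [show (b : E) = e⁻¹ from hb]
      rfl
    rw [hba, map_inv₀] at hlt
    exact absurd ((W.valuation_le_one_iff a).2 ha) (not_le.2 (by
      rwa [inv_lt_one₀ (by simpa [zero_lt_iff] using ha0)] at hlt))

end Groth.Agent.H28SGA7.HenselW
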