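import Groth.Agent.H28Neron.ComponentTorsion
import Groth.Agent.H25Rig.GroupMaps
import Groth.Prelude.Def_SGA7IX
import Mathlib.AlgebraicGeometry.ValuativeCriterion
import Mathlib.AlgebraicGeometry.Morphisms.FormallyUnramified

/-!
# Inertia acts trivially on prime-to-p torsion of abelian schemes
-/

set_option autoImplicit false
set_option backward.isDefEq.respectTransparency.types false
set_option linter.style.haveILetI false
universe u
open CategoryTheory CategoryTheory.Limits AlgebraicGeometry IsLocalRing MonoidalCategory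
open CartesianMonoidalCategory MonObj
open Groth.Agent.H28Neron

namespace Groth.Agent.H28SGA7.Inertia

attribute [local instance] Functor.grpObjObj

/-- Two points of a local scheme in an unramified scheme with the same image below and the same closed
point coincide. -/
theorem eq_of_residue_eq (W : Type u) [CommRing W] [IsLocalRing W] {X Y : Scheme.{u}} (h : X ⟶ Y)
    [FormallyUnramified h] [LocallyOfFiniteType h] (g₁ g₂ : Spec (CommRingCat.of W) ⟶ X)
    (hh : g₁ ≫ h = g₂ ≫ h)
    (hr : Spec.map (CommRingCat.ofHom (residue W)) ≫ g₁ = Spec.map (CommRingCat.ofHom (residue W)) ≫ g₂) :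
    g₁ = g₂ := by
  let p : Spec (CommRingCat.of W) ⟶ pullback h h := pullback.lift g₁ g₂ hh
  let r := Spec.map (CommRingCat.ofHom (residue W))
  let i := pullback.snd (pullback.diagonal h) p
  have hc : closedPoint W ∈ Set.range i.base := by
    let l : Spec (CommRingCat.of (ResidueField W)) ⟶ pullback (pullback.diagonal h) p :=
      pullback.lift (r ≫ g₁) r (by
        apply pullback.hom_ext
        · rw [Category.assoc, pullback.diagonal_fst, Category.comp_id, Category.assoc, pullback.lift_fst]
        · rw [Category.assoc, pullback.diagonal_snd, Category.comp_id, Category.assoc, pullback.lift_snd]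
          exact hr)
    refine ⟨l.base (closedPoint _), ?_⟩
    rw [← Scheme.Hom.comp_apply, pullback.lift_snd]
    exact IsLocalRing.comap_closedPoint (residue W)
  haveI : Surjective i := ⟨fun x => (IsLocalRing.specializes_closedPoint x).mem_open
    i.isOpenEmbedding.isOpen_range hc⟩
  haveI : IsIso i := by
    rw [isIso_iff_isOpenImmersion_and_epi_base]
    exact ⟨inferInstance, (TopCat.epi_iff_surjective _).2 i.surjective⟩
  have hp : p = (inv i ≫ pullback.fst (pullback.diagonal h) p) ≫ pullback.diagonal h := by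
    rw [Category.assoc, pullback.condition, IsIso.inv_hom_id_assoc]
  have h1 := congrArg (· ≫ pullback.fst h h) hp
  have h2 := congrArg (· ≫ pullback.snd h h) hp
  simp only [p, pullback.lift_fst, pullback.lift_snd, Category.assoc, pullback.diagonal_fst,
    pullback.diagonal_snd, Category.comp_id] at h1 h2
  exact h1.trans h2.symm

/-- Inertia fixes torsion points extending over the valuation ring. -/
theorem galAct_eq_of_lift (R K Ω : Type u) [CommRing R] [IsLocalRing R] [IsDomain R] [Field K]
    [Algebra R K] [IsFractionRing R K] [Field Ω] [Algebra K Ω]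
    (W : ValuationSubring Ω) (hW : SGA7.LiesOver K R W)
    (B : Over (Spec (CommRingCat.of R))) [GrpObj B] [IsCommMonObj B] [IsSeparated B.hom] [QuasiCompact B.hom]
    [Smooth B.hom] (n : ℕ) (hn : IsUnit (n : R)) (σ : Ω ≃ₐ[K] Ω) (hσ : SGA7.IsInertia W σ)
    (x : SGA7.Pts Ω ((SGA7.genFib R K).obj B)) (hx : x ^ n = 1)
    (Y : Spec (CommRingCat.of W) ⟶ B.left)
    (hY₁ : Spec.map (CommRingCat.ofHom W.toSubring.subtype) ≫ Y =
      x.left ≫ pullback.fst B.hom (Spec.map (CommRingCat.ofHom (algebraMap R K))))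
    (hY₂ : Y ≫ B.hom = Spec.map (CommRingCat.ofHom
      (((algebraMap K Ω).comp (algebraMap R K)).codRestrict W.toSubring hW.1))) :
    SGA7.galAct σ x = x := by
  let j := Spec.map (CommRingCat.ofHom (algebraMap R K))
  let y : Spec (CommRingCat.of Ω) ⟶ B.left := x.left ≫ pullback.fst B.hom j
  let ψ : R →+* W := ((algebraMap K Ω).comp (algebraMap R K)).codRestrict W.toSubring hW.1
  let inc : W →+* Ω := W.toSubring.subtype
  let σW : W →+* W := ((σ : Ω →+* Ω).comp inc).codRestrict W.toSubring fun a => (hσ _ a.2).1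
  change Spec.map (CommRingCat.ofHom inc) ≫ Y = y at hY₁
  change Y ≫ B.hom = Spec.map (CommRingCat.ofHom ψ) at hY₂
  let h := ((𝟙 B : B ⟶ B) ^ n).left
  haveI : Etale h := H28Neron.ComponentTorsion.etale_pow B n hn
  let g := (1 : B ⟶ B).left
  have hyn : y ≫ h = y ≫ g := by
    have h1 : x ≫ (SGA7.genFib R K).map ((𝟙 B : B ⟶ B) ^ n) = x ≫ (SGA7.genFib R K).map (1 : B ⟶ B) := by
      rw [H28Neron.ComponentTorsion.map_pow (SGA7.genFib R K) (fun {X} => Functor.map_one _)
        (fun f g => Functor.map_mul _ f g), CategoryTheory.Functor.map_id, Functor.map_one,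
        MonObj.comp_pow, Category.comp_id, hx, MonObj.comp_one]
    have h2 := congrArg (fun m => m.left ≫ pullback.fst B.hom j) h1
    change (x.left ≫ pullback.lift _ _ _) ≫ pullback.fst _ _ =
      (x.left ≫ pullback.lift _ _ _) ≫ pullback.fst _ _ at h2
    rw [Category.assoc, Category.assoc, pullback.lift_fst, pullback.lift_fst] at h2
    simpa only [y, Category.assoc] using h2
  haveI : IsDominant (Spec.map (CommRingCat.ofHom inc)) :=
    ⟨(PrimeSpectrum.denseRange_comap_iff_ker_le_nilRadical inc).2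
      (((RingHom.injective_iff_ker_eq_bot _).1 Subtype.val_injective).trans_le bot_le)⟩
  haveI : IsSchemeTheoreticallyDominant (Spec.map (CommRingCat.ofHom inc)) := .of_isDominant _
  have hYn : Y ≫ h = Y ≫ g := by
    refine ext_of_schDominant _ _ B.hom ?_ (Spec.map (CommRingCat.ofHom inc)) ?_
    · simp only [Category.assoc, h, g, Over.w]
    · rw [← Category.assoc, ← Category.assoc]
      exact (congrArg (· ≫ h) hY₁).trans (hyn.trans (congrArg (· ≫ g) hY₁).symm)
  -- `σ` on `Spec W`
  have hσψ : σW.comp ψ = ψ := by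
    ext r
    exact σ.commutes (algebraMap R K r)
  have hσres : (residue W).comp σW = residue W := by
    ext a
    apply sub_eq_zero.1
    show residue W (σW a) - residue W a = 0
    rw [← map_sub, residue_eq_zero_iff]
    exact (ValuationSubring.valuation_lt_one_iff W _).2 (hσ _ a.2).2
  let s := Spec.map (CommRingCat.ofHom σW)
  have hg : (s ≫ Y) ≫ g = Y ≫ g := by
    have : g = B.hom ≫ η[B].left := by
      show (toUnit B ≫ η[B]).left = _
      rfl
    rw [this, ← Category.assoc, ← Category.assoc, Category.assoc s, hY₂, ← Spec.map_comp,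
      ← CommRingCat.ofHom_comp, hσψ]
  have key : s ≫ Y = Y := by
    refine eq_of_residue_eq W h _ _ ?_ ?_
    · rw [Category.assoc, hYn, ← Category.assoc, hg]
    · rw [← Category.assoc, ← Spec.map_comp, ← CommRingCat.ofHom_comp, hσres]
  apply Over.OverMorphism.ext
  apply pullback.hom_ext
  · show (Spec.map (CommRingCat.ofHom (σ : Ω →+* Ω)) ≫ x.left) ≫ pullback.fst B.hom j = y
    rw [Category.assoc]
    show Spec.map (CommRingCat.ofHom (σ : Ω →+* Ω)) ≫ y = y
    conv_rhs => rw [← hY₁, ← key]
    rw [← hY₁, ← Category.assoc, ← Category.assoc, ← Spec.map_comp, ← Spec.map_comp]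
    rfl
  · exact (Over.w (SGA7.galAct σ x)).trans (Over.w x).symm

/-- Inertia fixes the torsion points of order invertible on the base. -/
theorem galAct_eq (R K Ω : Type u) [CommRing R] [IsLocalRing R] [IsDomain R] [Field K]
    [Algebra R K] [IsFractionRing R K] [Field Ω] [Algebra K Ω]
    (W : ValuationSubring Ω) (hW : SGA7.LiesOver K R W)
    (B : Over (Spec (CommRingCat.of R))) [GrpObj B] [IsCommMonObj B] [IsProper B.hom] [Smooth B.hom]
    (n : ℕ) (hn : IsUnit (n : R)) (σ : Ω ≃ₐ[K] Ω) (hσ : SGA7.IsInertia W σ)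
    (x : SGA7.Pts Ω ((SGA7.genFib R K).obj B)) (hx : x ^ n = 1) : SGA7.galAct σ x = x := by
  let j := Spec.map (CommRingCat.ofHom (algebraMap R K))
  let y : Spec (CommRingCat.of Ω) ⟶ B.left := x.left ≫ pullback.fst B.hom j
  let ψ : R →+* W := ((algebraMap K Ω).comp (algebraMap R K)).codRestrict W.toSubring hW.1
  let inc : W →+* Ω := W.toSubring.subtype
  have hstr : y ≫ B.hom = Spec.map (CommRingCat.ofHom inc) ≫ Spec.map (CommRingCat.ofHom ψ) := by
    have h0 : x.left ≫ pullback.snd B.hom j = Spec.map (CommRingCat.ofHom (algebraMap K Ω)) := Over.w x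
    have h1 : inc.comp ψ = (algebraMap K Ω).comp (algebraMap R K) := rfl
    rw [Category.assoc, pullback.condition, ← Category.assoc, h0, ← Spec.map_comp, ← Spec.map_comp]
    rfl
  let S : ValuativeCommSq B.hom :=
    { R := W, K := Ω, i₁ := y, i₂ := Spec.map (CommRingCat.ofHom ψ), commSq := ⟨hstr⟩ }
  obtain ⟨⟨Y, hY₁, hY₂⟩⟩ := ((UniversallyClosed.eq_valuativeCriterion ▸
    (inferInstance : UniversallyClosed B.hom)).1 S).exists_lift
  change Spec.map (CommRingCat.ofHom (algebraMap W Ω)) ≫ Y = y at hY₁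
  change Y ≫ B.hom = Spec.map (CommRingCat.ofHom ψ) at hY₂
  exact galAct_eq_of_lift R K Ω W hW B n hn σ hσ x hx Y hY₁ hY₂

/-- Transport of fixed torsion points along an isomorphism of schemes between abelian varieties. -/
theorem galAct_eq_of_iso {K Ω : Type u} [Field K] [Field Ω] [Algebra K Ω]
    {A' A : Over (Spec (CommRingCat.of K))} [GrpObj A'] [GrpObj A] [IsProper A'.hom]
    [GeometricallyIntegral A'.hom] [IsSeparated A.hom] (e : A' ≅ A) (n : ℕ) (σ : Ω ≃ₐ[K] Ω)
    (H : ∀ x : SGA7.Pts Ω A', x ^ n = 1 → SGA7.galAct σ x = x)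
    (x : SGA7.Pts Ω A) (hx : x ^ n = 1) : SGA7.galAct σ x = x := by
  let a : 𝟙_ (Over (Spec (CommRingCat.of K))) ⟶ A := η[A'] ≫ e.hom
  let f : A' ⟶ A := e.hom / (toUnit A' ≫ a)
  have hf : η[A'] ≫ f = η[A] := by
    rw [GrpObj.comp_div, ← Category.assoc, toUnit_unique (η[A'] ≫ toUnit A') (𝟙 _), Category.id_comp,
      div_self']
    rw [Hom.one_def, toUnit_unit, Category.id_comp]
  haveI : IsMonHom f := H25Rig.isMonHom_of_one_hom f hf
  let x' : SGA7.Pts Ω A' := (x * (toUnit _ ≫ a)) ≫ e.inv
  have hcomp : ∀ z : SGA7.Pts Ω A', z ≫ f = (z ≫ e.hom) / (toUnit _ ≫ a) := fun z => by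
    rw [GrpObj.comp_div, ← Category.assoc, toUnit_unique (z ≫ toUnit A') (toUnit _)]
  have hinj : ∀ z w : SGA7.Pts Ω A', z ≫ f = w ≫ f → z = w := fun z w hzw => by
    rw [hcomp, hcomp, div_left_inj, cancel_mono] at hzw
    exact hzw
  have hx' : x' ≫ f = x := by
    rw [hcomp, Category.assoc, Iso.inv_hom_id, Category.comp_id, mul_div_cancel_right]
  have hpow : x' ^ n = 1 := hinj _ _ (by rw [MonObj.pow_comp, hx', hx, MonObj.one_comp])
  rw [← hx']
  show SGA7.specAut σ ≫ x' ≫ f = x' ≫ f
  rw [← Category.assoc]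
  exact congrArg (· ≫ f) (H x' hpow)

end Groth.Agent.H28SGA7.Inertia
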