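import Mathlib
import Groth.Agent.H28SGA7.HenselW
import Groth.Agent.H28SGA7.Inertia

/-!
# Extending specialising points over the valuation ring
-/

set_option autoImplicit false
set_option backward.isDefEq.respectTransparency.types false
set_option linter.style.haveILetI false
universe u
open CategoryTheory CategoryTheory.Limits AlgebraicGeometry IsLocalRing

namespace Groth.Agent.H28SGA7.SpecLift

variable (R K Ω : Type u) [CommRing R] [IsDomain R] [IsDiscreteValuationRing R] [HenselianLocalRing R]
  [Field K] [Algebra R K] [IsFractionRing R K] [Field Ω] [Algebra K Ω] [IsSepClosure K Ω]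

theorem exists_lift_of_specializes (W : ValuationSubring Ω) (hW : SGA7.LiesOver K R W)
    (N : Over (Spec (CommRingCat.of R))) (y : Spec (CommRingCat.of Ω) ⟶ N.left)
    (hy : y ≫ N.hom = Spec.map (CommRingCat.ofHom ((algebraMap K Ω).comp (algebraMap R K))))
    (z : N.left) (hz : N.hom.base z = closedPoint R) (hyz : y.base (closedPoint Ω) ⤳ z) :
    ∃ Y : Spec (CommRingCat.of W) ⟶ N.left,
      Spec.map (CommRingCat.ofHom W.toSubring.subtype) ≫ Y = y ∧
      Y ≫ N.hom = Spec.map (CommRingCat.ofHom
        (((algebraMap K Ω).comp (algebraMap R K)).codRestrict W.toSubring hW.1)) := by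
  letI : Algebra R Ω := ((algebraMap K Ω).comp (algebraMap R K)).toAlgebra
  haveI : IsScalarTower R K Ω := IsScalarTower.of_algebraMap_eq fun r => rfl
  let φ : N.left.presheaf.stalk z ⟶ CommRingCat.of Ω :=
    N.left.presheaf.stalkSpecializes hyz ≫ Scheme.stalkClosedPointTo y
  have hgen : Spec.map φ ≫ N.left.fromSpecStalk z = y := by
    simp only [φ, Spec.map_comp, Category.assoc, Scheme.SpecMap_stalkSpecializes_fromSpecStalk]
    exact Scheme.Spec_stalkClosedPointTo_fromSpecStalk y
  obtain ⟨V, hV, hVloc⟩ := exists_factor_valuationRing φ.hom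
  let φV : N.left.presheaf.stalk z ⟶ CommRingCat.of V := CommRingCat.ofHom (φ.hom.codRestrict V.toSubring hV)
  let Y₀ : Spec (CommRingCat.of V) ⟶ N.left := Spec.map φV ≫ N.left.fromSpecStalk z
  have hY₀ : Spec.map (CommRingCat.ofHom V.toSubring.subtype) ≫ Y₀ = y := by
    rw [← Category.assoc, ← Spec.map_comp]
    exact hgen
  obtain ⟨θ, hθ⟩ := Spec.map_surjective (Y₀ ≫ N.hom)
  have hθ' : V.toSubring.subtype.comp θ.hom = algebraMap R Ω := by
    have h1 : Spec.map (θ ≫ CommRingCat.ofHom V.toSubring.subtype) =
        Spec.map (CommRingCat.ofHom ((algebraMap K Ω).comp (algebraMap R K))) := by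
      rw [Spec.map_comp, hθ, ← Category.assoc, hY₀, hy]
    exact congrArg CommRingCat.Hom.hom (Spec.map_injective h1)
  have hθc : (Spec.map θ).base (closedPoint V) = closedPoint R := by
    rw [hθ, Scheme.Hom.comp_apply]
    have hc : (Spec.map φV).base (closedPoint V) = closedPoint (N.left.presheaf.stalk z) := by
      haveI : IsLocalHom (φ.hom.codRestrict V.toSubring hV) := hVloc
      exact comap_closedPoint (S := V) (φ.hom.codRestrict V.toSubring hV)
    rw [Scheme.Hom.comp_apply, hc, Scheme.fromSpecStalk_closedPoint, hz]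
  have hVlies : SGA7.LiesOver K R V := by
    refine ⟨fun r => ?_, fun r hr => ?_⟩
    · have := RingHom.congr_fun hθ' r
      change _ = algebraMap K Ω (algebraMap R K r) at this
      rw [← this]
      exact (θ.hom r).2
    · have h1 : r ∈ ((Spec.map θ).base (closedPoint V)).asIdeal := by rw [hθc]; exact hr
      have h2 := (V.valuation_lt_one_iff (θ.hom r)).1 h1
      have h3 : ((θ.hom r : V) : Ω) = algebraMap K Ω (algebraMap R K r) := RingHom.congr_fun hθ' r
      rwa [h3] at h2
  have hVW : V = W := by
    ext a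
    rw [HenselW.mem_iff_isIntegral (R := R) hVlies, HenselW.mem_iff_isIntegral (R := R) hW]
  subst hVW
  refine ⟨Y₀, hY₀, ?_⟩
  rw [← hθ]
  congr 1
  ext r
  exact RingHom.congr_fun hθ' r

end Groth.Agent.H28SGA7.SpecLift
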