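import Mathlib
import Groth.Agent.H28SGA7.HenselW
import Groth.Agent.S0271

/-!
# Points fixed by inertia over a henselian discrete valuation ring
-/

set_option autoImplicit false
set_option backward.isDefEq.respectTransparency.types false
set_option linter.style.haveILetI false
universe u
open CategoryTheory CategoryTheory.Limits AlgebraicGeometry IsLocalRing
open scoped Pointwise TensorProduct

namespace Groth.Agent.H28SGA7.Unram

section Action

variable (R K L : Type u) [CommRing R] [Field K] [Algebra R K] [Field L] [Algebra K L]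
  [Algebra R L] [IsScalarTower R K L]

/-- The action of automorphisms on the integral closure. -/
@[reducible]
def action : MulSemiringAction (L ≃ₐ[K] L) (integralClosure R L) where
  smul σ b := ⟨σ b, b.2.map ((σ : L →ₐ[K] L).restrictScalars R)⟩
  one_smul _ := rfl
  mul_smul _ _ _ := rfl
  smul_zero σ := Subtype.ext (map_zero σ)
  smul_add σ _ _ := Subtype.ext (map_add σ _ _)
  smul_one σ := Subtype.ext (map_one σ)
  smul_mul σ _ _ := Subtype.ext (map_mul σ _ _)

attribute [local instance] action

theorem coe_smul (σ : L ≃ₐ[K] L) (b : integralClosure R L) : ((σ • b : integralClosure R L) : L) = σ b := rfl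

end Action

attribute [local instance] action

theorem smul_mem_maximalIdeal {G S : Type*} [Group G] [CommRing S] [IsLocalRing S]
    [MulSemiringAction G S] (g : G) {s : S} (hs : s ∈ maximalIdeal S) : g • s ∈ maximalIdeal S := by
  rw [mem_maximalIdeal, mem_nonunits_iff] at hs ⊢
  intro h
  apply hs
  have := h.map (MulSemiringAction.toRingHom G S g⁻¹)
  simpa using this

variable (R K Ω : Type u) [CommRing R] [IsDomain R] [IsDiscreteValuationRing R] [HenselianLocalRing R]
  [Field K] [Algebra R K] [IsFractionRing R K] [Field Ω] [Algebra K Ω] [IsSepClosure K Ω]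
  [Algebra R Ω] [IsScalarTower R K Ω]

/-- Inertia of a finite Galois subextension lifts to the separable closure. -/
theorem exists_inertia_lift {W : ValuationSubring Ω} (hW : SGA7.LiesOver K R W)
    (L : IntermediateField K Ω) [FiniteDimensional K L] [IsGalois K L]
    [IsLocalRing (integralClosure R L)] [IsLocalRing (integralClosure R Ω)]
    (τ : L ≃ₐ[K] L) (hτ : ∀ b : integralClosure R L, τ • b - b ∈ maximalIdeal (integralClosure R L)) :
    ∃ σ : Ω ≃ₐ[K] Ω, SGA7.IsInertia W σ ∧ ∀ l : L, σ (l : Ω) = (τ l : Ω) := by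
  haveI : IsGalois K Ω := IsSepClosure.isGalois
  let σ₀ : Ω ≃ₐ[K] Ω := τ.liftNormal Ω
  have hσ₀ : ∀ l : L, σ₀ (l : Ω) = (τ l : Ω) := τ.liftNormal_commutes Ω
  let B := integralClosure R L
  let C := integralClosure R Ω
  let inc : B →+* C := ((L.val.restrictScalars R).mapIntegralClosure).toRingHom
  letI : Algebra B C := inc.toAlgebra
  letI actC : MulSemiringAction (Ω ≃ₐ[L] Ω) C :=
    { smul := fun σ c => ⟨σ c, c.2.map (((σ : Ω →ₐ[L] Ω).restrictScalars K).restrictScalars R)⟩
      one_smul := fun _ => rfl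
      mul_smul := fun _ _ _ => rfl
      smul_zero := fun σ => Subtype.ext (map_zero σ)
      smul_add := fun σ _ _ => Subtype.ext (map_add σ _ _)
      smul_one := fun σ => Subtype.ext (map_one σ)
      smul_mul := fun σ _ _ => Subtype.ext (map_mul σ _ _) }
  haveI : SMulCommClass (Ω ≃ₐ[L] Ω) B C := ⟨fun σ b c => Subtype.ext (by
    show σ (((inc b : C) : Ω) * (c : Ω)) = ((inc b : C) : Ω) * σ c
    rw [map_mul]
    congr 1
    exact σ.commutes (b : L))⟩
  letI : TopologicalSpace C := ⊥
  haveI : DiscreteTopology C := ⟨rfl⟩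
  haveI : IsGalois L Ω := IsGalois.tower_top_of_isGalois K L Ω
  haveI : ContinuousSMul (Ω ≃ₐ[L] Ω) C := continuousSMul_iff_stabilizer_isOpen.mpr fun c => by
    haveI : FiniteDimensional L (IntermediateField.adjoin L {(c : Ω)}) :=
      IntermediateField.adjoin.finiteDimensional (Algebra.IsIntegral.isIntegral _)
    refine Subgroup.isOpen_mono (fun g hg => ?_)
      (IntermediateField.fixingSubgroup_isOpen (IntermediateField.adjoin L {(c : Ω)}))
    rw [MulAction.mem_stabilizer_iff]
    exact Subtype.ext (hg ⟨c, IntermediateField.mem_adjoin_simple_self L _⟩)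
  haveI : Algebra.IsInvariant B C (Ω ≃ₐ[L] Ω) := ⟨fun c hc => by
    obtain ⟨l, hl⟩ := (InfiniteGalois.mem_range_algebraMap_iff_fixed (c : Ω)).2
      fun g => congrArg Subtype.val (hc g)
    have hli : IsIntegral R l := (isIntegral_algHom_iff (L.val.restrictScalars R) L.val.injective).1
      (show IsIntegral R (l : Ω) by rw [show (l : Ω) = c from hl]; exact c.2)
    exact ⟨⟨l, hli⟩, Subtype.ext hl⟩⟩
  let Q := maximalIdeal C
  let P : Ideal B := Q.comap inc
  haveI : Q.LiesOver P := ⟨rfl⟩
  let e : C ≃+* C := ((σ₀.restrictScalars R).mapIntegralClosure).toRingEquiv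
  have hQ : Q = Q.map (e : C →+* C) := (IsLocalRing.eq_maximalIdeal (I := Q.map (e : C →+* C))
    (Ideal.map_isMaximal_of_equiv e)).symm
  haveI : IsLocalHom inc := by
    refine ⟨fun b hb => ?_⟩
    by_contra hbu
    obtain ⟨c, hc⟩ := isUnit_iff_exists_inv.1 hb
    have hne : (b : L) ≠ 0 := fun h => by
      have := congrArg Subtype.val hc
      rw [show ((inc b * c : C) : Ω) = (((b : L) : Ω)) * c from rfl, h] at this
      simp at this
    have hci : IsIntegral R ((b : L)⁻¹) := (isIntegral_algHom_iff (L.val.restrictScalars R) L.val.injective).1 (by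
      have h1 : (((b : L)⁻¹ : L) : Ω) = c := by
        have := congrArg Subtype.val hc
        rw [show ((inc b * c : C) : Ω) = (((b : L) : Ω)) * c from rfl] at this
        rw [IntermediateField.coe_inv]
        exact inv_eq_of_mul_eq_one_right this
      show IsIntegral R (((b : L)⁻¹ : L) : Ω)
      rw [h1]
      exact c.2)
    exact hbu (isUnit_iff_exists_inv.2 ⟨⟨_, hci⟩, Subtype.ext (mul_inv_cancel₀ hne)⟩)
  let ē : (C ⧸ Q) ≃ₐ[B ⧸ P] C ⧸ Q :=
    AlgEquiv.ofRingEquiv (f := Ideal.quotientEquiv Q Q e hQ) (fun r => by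
      obtain ⟨b, rfl⟩ := Ideal.Quotient.mk_surjective r
      show Ideal.Quotient.mk Q (e (inc b)) = Ideal.Quotient.mk Q (inc b)
      rw [Ideal.Quotient.eq]
      have h1 : e (inc b) = inc (τ • b) := Subtype.ext (hσ₀ (b : L))
      rw [h1, ← map_sub]
      exact map_nonunit inc _ (hτ b))
  obtain ⟨⟨ρ, hρ⟩, hρe⟩ := Ideal.Quotient.stabilizerHom_surjective_of_profinite
    (G := Ω ≃ₐ[L] Ω) P Q ē
  let σ : Ω ≃ₐ[K] Ω := σ₀.trans (ρ.symm.restrictScalars K)
  refine ⟨σ, fun a ha => ?_, fun l => ?_⟩
  · have hai : IsIntegral R a := (HenselW.mem_iff_isIntegral hW a).1 ha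
    let c : C := ⟨a, hai⟩
    have hρc : ρ • c - e c ∈ Q := by
      rw [← Ideal.Quotient.eq]
      exact (DFunLike.congr_fun hρe (Ideal.Quotient.mk Q c))
    have hmem : ρ⁻¹ • e c - c ∈ Q := by
      have := smul_mem_maximalIdeal ρ⁻¹ (neg_mem hρc)
      rwa [neg_sub, smul_sub, inv_smul_smul] at this
    have hσint : IsIntegral R (σ a) := (ρ⁻¹ • e c).2
    have hσW : σ a ∈ W := (HenselW.mem_iff_isIntegral hW _).2 hσint
    refine ⟨hσW, ?_⟩
    let d : W := ⟨σ a - a, sub_mem hσW ha⟩
    refine (W.valuation_lt_one_iff d).1 fun hd => ?_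
    obtain ⟨w, hw⟩ := isUnit_iff_exists_inv.1 hd
    refine hmem (isUnit_iff_exists_inv.2 ⟨⟨w, (HenselW.mem_iff_isIntegral hW _).1 w.2⟩, Subtype.ext ?_⟩)
    exact (congrArg Subtype.val hw : (σ a - a) * (w : Ω) = 1)
  · show ρ.symm (σ₀ l) = _
    rw [hσ₀]
    exact ρ.symm.commutes (τ l)

/-- An inertia-fixed point is rational over an inertia field. -/
theorem exists_factor {W : ValuationSubring Ω} (hW : SGA7.LiesOver K R W)
    (NK : Over (Spec (CommRingCat.of K))) [LocallyOfFiniteType NK.hom] (x : SGA7.Pts Ω NK)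
    (hfix : ∀ σ : Ω ≃ₐ[K] Ω, SGA7.IsInertia W σ → SGA7.galAct σ x = x) :
    ∃ (L : IntermediateField K Ω) (_ : FiniteDimensional K L) (_ : IsGalois K L)
      (_ : IsLocalRing (integralClosure R L))
      (v : Spec (CommRingCat.of (IntermediateField.fixedField
        ((maximalIdeal (integralClosure R L)).inertia (L ≃ₐ[K] L)))) ⟶ NK.left),
      v ≫ NK.hom = Spec.map (CommRingCat.ofHom (algebraMap K _)) ∧
      Spec.map (CommRingCat.ofHom (L.val.comp (IntermediateField.fixedField
        ((maximalIdeal (integralClosure R L)).inertia (L ≃ₐ[K] L))).val).toRingHom) ≫ v = x.left := by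
  haveI : IsGalois K Ω := IsSepClosure.isGalois
  let x' : Spec (CommRingCat.of Ω) ⟶ NK.left := x.left
  obtain ⟨U, hU, hxU, -⟩ := exists_isAffineOpen_mem_and_subset (x := x'.base (closedPoint Ω))
    (U := (⊤ : NK.left.Opens)) trivial
  let c := hU.fromSpec ≫ NK.hom
  obtain ⟨ψ, hψ⟩ := Spec.map_surjective c
  have hrange : Set.range x'.base ⊆ Set.range hU.fromSpec.base := by
    rw [hU.range_fromSpec]
    rintro _ ⟨p, rfl⟩
    rw [Subsingleton.elim p (closedPoint Ω)]
    exact hxU
  obtain ⟨χ, hχ⟩ := Spec.map_surjective (IsOpenImmersion.lift hU.fromSpec x' hrange)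
  have hχx : Spec.map χ ≫ hU.fromSpec = x' := by rw [hχ, IsOpenImmersion.lift_fac]
  have hψχ : χ.hom.comp ψ.hom = algebraMap K Ω := by
    have h1 : Spec.map (ψ ≫ χ) = Spec.map (CommRingCat.ofHom (algebraMap K Ω)) := by
      rw [Spec.map_comp, hψ, ← Category.assoc, hχx]
      exact Over.w x
    exact congrArg CommRingCat.Hom.hom (Spec.map_injective h1)
  have hχfix : ∀ σ : Ω ≃ₐ[K] Ω, SGA7.IsInertia W σ → ∀ a, σ (χ.hom a) = χ.hom a := by
    intro σ hσ a
    have h1 : Spec.map (χ ≫ CommRingCat.ofHom (σ : Ω →+* Ω)) ≫ hU.fromSpec =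
        Spec.map χ ≫ hU.fromSpec := by
      rw [Spec.map_comp, Category.assoc, hχx]
      exact congrArg CommaMorphism.left (hfix σ hσ)
    exact RingHom.congr_fun (congrArg CommRingCat.Hom.hom (Spec.map_injective ((cancel_mono _).1 h1))) a
  letI : Algebra K Γ(NK.left, U) := ψ.hom.toAlgebra
  haveI : LocallyOfFiniteType c := inferInstance
  haveI : Algebra.FiniteType K Γ(NK.left, U) := by
    have h := (HasRingHomProperty.Spec_iff (P := @LocallyOfFiniteType)).1 (hψ ▸ ‹LocallyOfFiniteType c›)
    exact h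
  let χA : Γ(NK.left, U) →ₐ[K] Ω := { χ.hom with commutes' := fun r => RingHom.congr_fun hψχ r }
  obtain ⟨s, hs⟩ := (Algebra.FiniteType.out : (⊤ : Subalgebra K Γ(NK.left, U)).FG)
  let F : IntermediateField K Ω := IntermediateField.adjoin K (χA '' s)
  haveI : FiniteDimensional K F := by
    haveI : Finite (χA '' (s : Set Γ(NK.left, U))) := (s.finite_toSet.image _).to_subtype
    exact IntermediateField.finiteDimensional_adjoin fun a _ => Algebra.IsIntegral.isIntegral a
  have hχF : ∀ a, χA a ∈ F := fun a => by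
    have : χA a ∈ (⊤ : Subalgebra K Γ(NK.left, U)).map χA := ⟨a, trivial, rfl⟩
    rw [← hs, AlgHom.map_adjoin] at this
    exact IntermediateField.algebra_adjoin_le_adjoin K _ this
  let L : IntermediateField K Ω := IntermediateField.normalClosure K F Ω
  haveI : IsGalois K L := IsGalois.normalClosure K F Ω
  haveI : IsLocalRing (integralClosure R L) := H7Flat.FlatTransfer.isLocalRing_integralClosure R L
  haveI : IsLocalRing (integralClosure R Ω) := H7Flat.FlatTransfer.isLocalRing_integralClosure R Ω
  let E : IntermediateField K L :=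
    IntermediateField.fixedField ((maximalIdeal (integralClosure R L)).inertia (L ≃ₐ[K] L))
  have hle : F ≤ L := F.le_normalClosure
  have hmem : ∀ a, (⟨χA a, hle (hχF a)⟩ : L) ∈ E := by
    rintro a ⟨τ, hτ⟩
    obtain ⟨σ, hσ, hσl⟩ := exists_inertia_lift R K Ω hW L τ (fun b => hτ b)
    refine Subtype.ext ?_
    show ((τ _ : L) : Ω) = χA a
    rw [← hσl]
    exact hχfix σ hσ a
  let χE : Γ(NK.left, U) →+* E :=
    { toFun := fun a => ⟨_, hmem a⟩
      map_one' := Subtype.ext (Subtype.ext (map_one χA))
      map_zero' := Subtype.ext (Subtype.ext (map_zero χA))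
      map_mul' := fun a b => Subtype.ext (Subtype.ext (map_mul χA a b))
      map_add' := fun a b => Subtype.ext (Subtype.ext (map_add χA a b)) }
  refine ⟨L, inferInstance, inferInstance, inferInstance,
    Spec.map (CommRingCat.ofHom χE) ≫ hU.fromSpec, ?_, ?_⟩
  · rw [Category.assoc]
    show _ ≫ c = _
    rw [← hψ, ← Spec.map_comp]
    congr 1
    ext k
    exact χA.commutes k
  · show _ = x'
    rw [← hχx, ← Category.assoc, ← Spec.map_comp]
    rfl

/-- Tensoring with the fraction field of a ring injecting birationally into a field gives that field. -/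
theorem bijective_lift {A E : Type u} [CommRing A] [Algebra R A] [Field E] [Algebra R E] [Algebra K E]
    [IsScalarTower R K E] (f : A →ₐ[R] E) (hf : Function.Injective f)
    (hs : ∀ e : E, ∃ r : R, r ≠ 0 ∧ algebraMap R E r * e ∈ Set.range f) :
    Function.Bijective (Algebra.TensorProduct.lift f (IsScalarTower.toAlgHom R K E) (fun _ _ => Commute.all _ _)) := by
  let uT := Algebra.TensorProduct.lift f (IsScalarTower.toAlgHom R K E) (fun _ _ => Commute.all _ _)
  have huT : ∀ a k, uT (a ⊗ₜ k) = f a * algebraMap K E k := fun a k => by simp [uT]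
  have hne : ∀ {r : R}, r ≠ 0 → algebraMap R K r ≠ 0 := fun hr h =>
    hr ((map_eq_zero_iff _ (IsFractionRing.injective R K)).1 h)
  have hpure : ∀ t : A ⊗[R] K, ∃ (a : A) (r : R), r ≠ 0 ∧ t = a ⊗ₜ (algebraMap R K r)⁻¹ := by
    intro t
    induction t using TensorProduct.induction_on with
    | zero => exact ⟨0, 1, one_ne_zero, by simp⟩
    | tmul a k =>
      obtain ⟨s, r, hr, rfl⟩ := IsFractionRing.div_surjective (A := R) k
      refine ⟨s • a, r, nonZeroDivisors.ne_zero hr, ?_⟩
      rw [TensorProduct.smul_tmul, Algebra.smul_def, div_eq_mul_inv]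
    | add t₁ t₂ h₁ h₂ =>
      obtain ⟨a₁, r₁, hr₁, rfl⟩ := h₁
      obtain ⟨a₂, r₂, hr₂, rfl⟩ := h₂
      refine ⟨r₂ • a₁ + r₁ • a₂, r₁ * r₂, mul_ne_zero hr₁ hr₂, ?_⟩
      rw [TensorProduct.add_tmul, TensorProduct.smul_tmul, TensorProduct.smul_tmul, Algebra.smul_def,
        Algebra.smul_def, map_mul]
      congr 2 <;> field_simp [hne hr₁, hne hr₂]
  refine ⟨(injective_iff_map_eq_zero uT).2 fun t ht => ?_, fun e => ?_⟩
  · obtain ⟨a, r, hr, rfl⟩ := hpure t
    rw [huT, mul_eq_zero] at ht
    rcases ht with h | h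
    · rw [hf (h.trans (map_zero f).symm), TensorProduct.zero_tmul]
    · rw [map_eq_zero, inv_eq_zero] at h
      exact absurd h (hne hr)
  · obtain ⟨r, hr, a, ha⟩ := hs e
    refine ⟨a ⊗ₜ (algebraMap R K r)⁻¹, ?_⟩
    show uT _ = e
    rw [huT, ha, map_inv₀, IsScalarTower.algebraMap_apply R K E, mul_comm (algebraMap K E _) e, mul_assoc,
      mul_inv_cancel₀ (by rw [map_ne_zero]; exact hne hr), mul_one]

/-- A map to a field killing the maximal ideal. -/
theorem comap_ker_eq {S A k : Type*} [CommRing S] [IsLocalRing S] [CommRing A] [Field k] (ρ : S →+* A)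
    (κ : A →+* k) (h : ∀ r ∈ maximalIdeal S, κ (ρ r) = 0) :
    (RingHom.ker κ).comap ρ = maximalIdeal S :=
  ((maximalIdeal.isMaximal S).eq_of_le (Ideal.comap_ne_top ρ (RingHom.ker_ne_top κ)) h).symm

/-- A map out of a principal localisation extending an injective one is injective. -/
theorem injective_away_lift {S E : Type u} [CommRing S] [CommRing E] (g : S) {j : S →+* E}
    (hg : IsUnit (j g)) (hj : Function.Injective j) :
    Function.Injective (IsLocalization.Away.lift (S := Localization.Away g) g hg) := by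
  refine (injective_iff_map_eq_zero _).2 fun a ha => ?_
  obtain ⟨⟨b, m⟩, hbm⟩ := IsLocalization.surj (Submonoid.powers g) a
  have h1 := congrArg (IsLocalization.Away.lift (S := Localization.Away g) g hg) hbm
  rw [map_mul, ha, zero_mul, IsLocalization.Away.lift_eq] at h1
  rw [hj (h1.symm.trans (map_zero j).symm), map_zero] at hbm
  exact (IsLocalization.map_units (Localization.Away g) m).mul_left_eq_zero.1 hbm

/-- An étale model of a field with a closed point gives specialisations of rational points. -/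
theorem exists_specializes_of_model {A E : Type u} [CommRing A] [Algebra R A] [Field E] [Algebra R E]
    [Algebra K E] [IsScalarTower R K E] (het : (algebraMap R A).Etale) (f : A →ₐ[R] E)
    (hf : Function.Injective f) (hs : ∀ e : E, ∃ r : R, r ≠ 0 ∧ algebraMap R E r * e ∈ Set.range f)
    (a₀ : PrimeSpectrum A) (ha₀ : a₀.asIdeal.comap (algebraMap R A) = maximalIdeal R) (inclE : E →+* Ω)
    (N : Over (Spec (CommRingCat.of R)))
    (hN : ∀ Y : Over (Spec (CommRingCat.of R)), Smooth Y.hom →
      Function.Bijective (fun g : Y ⟶ N => (SGA7.genFib R K).map g))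
    (v₀ : Spec (CommRingCat.of E) ⟶ ((SGA7.genFib R K).obj N).left)
    (hv₀ : v₀ ≫ ((SGA7.genFib R K).obj N).hom = Spec.map (CommRingCat.ofHom (algebraMap K E))) :
    ∃ z : N.left, N.hom.base z = closedPoint R ∧
      (Spec.map (CommRingCat.ofHom inclE) ≫ v₀ ≫
        pullback.fst N.hom (Spec.map (CommRingCat.ofHom (algebraMap R K)))).base (closedPoint Ω) ⤳ z := by
  let Y : Over (Spec (CommRingCat.of R)) := Over.mk (Spec.map (CommRingCat.ofHom (algebraMap R A)))
  haveI : Etale (Spec.map (CommRingCat.ofHom (algebraMap R A))) :=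
    (HasRingHomProperty.Spec_iff (P := @Etale)).2 het
  have hYs : Smooth Y.hom := by
    show Smooth (Spec.map (CommRingCat.ofHom (algebraMap R A)))
    infer_instance
  let T := A ⊗[R] K
  let uT : T →ₐ[R] E := Algebra.TensorProduct.lift f (IsScalarTower.toAlgHom R K E)
    (fun _ _ => Commute.all _ _)
  have huT : ∀ a k, uT (a ⊗ₜ k) = f a * algebraMap K E k := fun a k =>
    Algebra.TensorProduct.lift_tmul _ _ _ a k
  have huTbij : Function.Bijective uT := bijective_lift R K f hf hs
  let eT := RingEquiv.ofBijective uT.toRingHom huTbij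
  let jK := Spec.map (CommRingCat.ofHom (algebraMap R K))
  let v : pullback Y.hom jK ⟶ ((SGA7.genFib R K).obj N).left :=
    (pullbackSpecIso R A K).hom ≫ Spec.map (CommRingCat.ofHom (eT.symm : E →+* T)) ≫
      v₀
  have hv : v ≫ ((SGA7.genFib R K).obj N).hom = pullback.snd Y.hom jK := by
    have h1 : (eT.symm : E →+* T).comp (algebraMap K E) =
        (Algebra.TensorProduct.includeRight (R := R) (A := A) (B := K)).toRingHom := by
      ext k
      apply huTbij.1
      show uT (eT.symm (algebraMap K E k)) = uT (1 ⊗ₜ k)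
      rw [huT, map_one, one_mul]
      exact eT.apply_symm_apply _
    simp only [v, Category.assoc]
    rw [hv₀, ← Spec.map_comp]
    rw [show CommRingCat.ofHom (algebraMap K E) ≫ CommRingCat.ofHom (eT.symm : E →+* T) =
      CommRingCat.ofHom (Algebra.TensorProduct.includeRight (R := R) (A := A) (B := K)).toRingHom
      from CommRingCat.hom_ext h1]
    exact pullbackSpecIso_hom_snd R A K
  obtain ⟨G, hG⟩ := (hN Y hYs).2 (Over.homMk v hv)
  have hG' : pullback.fst Y.hom jK ≫ G.left = v ≫ pullback.fst N.hom jK := by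
    have := congrArg (fun m => m.left ≫ pullback.fst N.hom jK) hG
    change pullback.lift _ _ _ ≫ pullback.fst _ _ = v ≫ pullback.fst N.hom jK at this
    rw [pullback.lift_fst] at this
    exact this
  let aΩ : A →+* Ω := inclE.comp f.toRingHom
  have hy : Spec.map (CommRingCat.ofHom inclE) ≫ v₀ ≫ pullback.fst N.hom jK =
      Spec.map (CommRingCat.ofHom aΩ) ≫ G.left := by
    let m : Spec (CommRingCat.of Ω) ⟶ pullback Y.hom jK :=
      Spec.map (CommRingCat.ofHom (inclE.comp uT.toRingHom)) ≫ (pullbackSpecIso R A K).inv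
    have hm₁ : m ≫ pullback.fst Y.hom jK = Spec.map (CommRingCat.ofHom aΩ) := by
      simp only [m, Category.assoc]
      erw [pullbackSpecIso_inv_fst]
      rw [← Spec.map_comp]
      congr 1
      ext a
      show inclE (uT (a ⊗ₜ 1)) = aΩ a
      rw [huT, map_one, mul_one]
      rfl
    have hm₂ : m ≫ v = Spec.map (CommRingCat.ofHom inclE) ≫ v₀ := by
      simp only [m, v, Category.assoc]
      rw [Iso.inv_hom_id_assoc, ← Category.assoc, ← Spec.map_comp]
      congr 2
      ext a
      show inclE (uT (eT.symm a)) = inclE a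
      rw [show uT (eT.symm a) = a from eT.apply_symm_apply _]
    rw [← Category.assoc, ← hm₂, ← hm₁]
    exact (Category.assoc m v _).trans ((congrArg (m ≫ ·) hG'.symm).trans (Category.assoc m _ _).symm)
  let a₁ : Spec (CommRingCat.of A) := a₀
  refine ⟨G.left.base a₁, ?_, ?_⟩
  · rw [← Scheme.Hom.comp_apply, Over.w]
    exact PrimeSpectrum.ext ha₀
  · rw [hy, Scheme.Hom.comp_apply]
    refine Specializes.map ?_ G.left.continuous
    refine (PrimeSpectrum.le_iff_specializes _ _).1 ?_
    intro a ha
    have h1 : aΩ a ∈ maximalIdeal Ω := ha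
    have h0 : inclE (f a) = 0 := by
      by_contra h
      exact h1 (isUnit_iff_ne_zero.2 h)
    rw [show a = 0 from hf ((inclE.injective (h0.trans (map_zero _).symm)).trans (map_zero f).symm)]
    exact zero_mem _

/-- Packaging a principal localisation as an étale model. -/
theorem exists_model_aux {BG BI E k : Type u} [CommRing BG] [CommRing BI] [Algebra BG BI] [Field E]
    [Algebra R E] [Field k] (g : BI) (eR : R →+* BG) (heR : Function.Bijective eR)
    (het : Algebra.Etale BG (Localization.Away g)) (j : BI →+* E) (hj : Function.Injective j)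
    (hjR : ∀ r, j (algebraMap BG BI (eR r)) = algebraMap R E r) (hjg : IsUnit (j g))
    (res : BI →+* k) (hres : IsUnit (res g))
    (hresR : ∀ r ∈ maximalIdeal R, res (algebraMap BG BI (eR r)) = 0)
    (hs : ∀ e : E, ∃ r : R, r ≠ 0 ∧ algebraMap R E r * e ∈ Set.range j) :
    ∃ (A : Type u) (_ : CommRing A) (_ : Algebra R A) (f : A →ₐ[R] E) (a₀ : PrimeSpectrum A),
      (algebraMap R A).Etale ∧ Function.Injective f ∧
      (∀ e, ∃ r : R, r ≠ 0 ∧ algebraMap R E r * e ∈ Set.range f) ∧
      a₀.asIdeal.comap (algebraMap R A) = maximalIdeal R := by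
  let A := Localization.Away g
  let ρA : R →+* A := (algebraMap BG A).comp eR
  have hρA : ρA.Etale := RingHom.Etale.stableUnderComposition _ _
    (RingHom.Etale.of_bijective heR) (RingHom.etale_algebraMap.2 het)
  letI : Algebra R A := ρA.toAlgebra
  let aE : A →+* E := IsLocalization.Away.lift (x := g) hjg
  have haE : ∀ b : BI, aE (algebraMap BI A b) = j b := IsLocalization.Away.lift_eq (x := g) hjg
  have hmap : ∀ r, algebraMap R A r = algebraMap BI A (algebraMap BG BI (eR r)) := fun r =>
    IsScalarTower.algebraMap_apply BG BI A _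
  have haER : ∀ r : R, aE (algebraMap R A r) = algebraMap R E r := fun r => by
    rw [hmap, haE, hjR]
  let f : A →ₐ[R] E := { aE with commutes' := haER }
  let aκ : A →+* k := IsLocalization.Away.lift (x := g) hres
  refine ⟨A, inferInstance, ρA.toAlgebra, f, ⟨RingHom.ker aκ, RingHom.ker_isPrime aκ⟩, hρA,
    injective_away_lift g hjg hj, fun e => ?_, comap_ker_eq _ aκ fun r hr => ?_⟩
  · obtain ⟨r, hr, b, hb⟩ := hs e
    exact ⟨r, hr, algebraMap BI A b, (haE b).trans hb⟩
  · rw [show algebraMap R A r = _ from hmap r]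
    exact (IsLocalization.Away.lift_eq (x := g) hres _).trans (hresR r hr)

/-- The inertia field of a finite Galois extension has an étale model with a closed point. -/
theorem exists_model (L : IntermediateField K Ω) [FiniteDimensional K L] [IsGalois K L]
    [IsLocalRing (integralClosure R L)] :
    ∃ (A : Type u) (_ : CommRing A) (_ : Algebra R A)
      (f : A →ₐ[R] IntermediateField.fixedField
        ((maximalIdeal (integralClosure R L)).inertia (L ≃ₐ[K] L)))
      (a₀ : PrimeSpectrum A),
      (algebraMap R A).Etale ∧ Function.Injective f ∧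
      (∀ e, ∃ r : R, r ≠ 0 ∧ algebraMap R _ r * e ∈ Set.range f) ∧
      a₀.asIdeal.comap (algebraMap R A) = maximalIdeal R := by
  let B := integralClosure R L
  let q := maximalIdeal B
  let I : Subgroup (L ≃ₐ[K] L) := q.inertia (L ≃ₐ[K] L)
  let E : IntermediateField K L := IntermediateField.fixedField I
  -- the étale neighbourhood
  obtain ⟨g, hg, het⟩ := Groth.Agent.S0271.result (L ≃ₐ[K] L) B q
  let BI := FixedPoints.subring B I
  let BG := FixedPoints.subring B (L ≃ₐ[K] L)
  have hinj : Function.Injective (algebraMap R B) := fun a b h => by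
    have h1 := congrArg Subtype.val h
    change algebraMap R L a = algebraMap R L b at h1
    rw [IsScalarTower.algebraMap_apply R K L, IsScalarTower.algebraMap_apply R K L] at h1
    exact IsFractionRing.injective R K ((algebraMap K L).injective h1)
  have hfixR : ∀ (τ : L ≃ₐ[K] L) (r : R), τ • algebraMap R B r = algebraMap R B r := fun τ r =>
    Subtype.ext (τ.restrictScalars R |>.commutes r)
  let eR : R →+* BG := (algebraMap R B).codRestrict BG fun r τ => hfixR τ r
  have heR : Function.Bijective eR := by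
    refine ⟨fun a b h => hinj (congrArg Subtype.val h), fun c => ?_⟩
    obtain ⟨k, hk⟩ := IntermediateField.mem_bot.1 ((IsGalois.mem_bot_iff_fixed (c.1 : L)).2
      fun τ => congrArg Subtype.val (c.2 τ))
    have hki : IsIntegral R k := (isIntegral_algebraMap_iff (algebraMap K L).injective).1
      (by rw [hk]; exact c.1.2)
    obtain ⟨r, hr⟩ := IsIntegrallyClosed.isIntegral_iff.1 hki
    refine ⟨r, Subtype.ext (Subtype.ext ?_)⟩
    show algebraMap R L r = _
    rw [IsScalarTower.algebraMap_apply R K L, hr, hk]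
  -- the map to the field `E`
  have hgL : ((g : B) : L) ≠ 0 := fun h => hg (by
    show (g : B) ∈ q
    rw [show (g : B) = 0 from Subtype.ext h]
    exact zero_mem _)
  let bE : BI →+* E :=
    { toFun := fun b => ⟨((b : B) : L), fun τ => congrArg Subtype.val ((b.2 : ∀ σ : I, σ • (b : B) = b) τ)⟩
      map_one' := rfl
      map_zero' := rfl
      map_mul' := fun _ _ => rfl
      map_add' := fun _ _ => rfl }
  have hgE : IsUnit (bE g) := isUnit_iff_ne_zero.2 fun h => hgL (congrArg Subtype.val h)
  let res : BI →+* ResidueField B := (residue B).comp BI.subtype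
  have hgres : IsUnit (res g) := isUnit_iff_ne_zero.2 fun h => hg ((residue_eq_zero_iff _).1 h)
  refine exists_model_aux (R := R) g eR heR het bE
    (fun b c h => Subtype.ext (Subtype.ext (congrArg (fun e : E => (e : L)) h)))
    (fun r => Subtype.ext rfl) hgE res hgres (fun r hr => ?_) (fun e => ?_)
  · show residue B (algebraMap R B r) = 0
    rw [residue_eq_zero_iff]
    show r ∈ (maximalIdeal B).comap (algebraMap R B)
    rwa [IsLocalRing.eq_maximalIdeal (Ideal.isMaximal_comap_of_isIntegral_of_isMaximal (maximalIdeal B))]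
  · obtain ⟨m, hm⟩ := IsIntegral.exists_multiple_integral_of_isLocalization (nonZeroDivisors R) (Rₘ := K)
      (e : L) (Algebra.IsIntegral.isIntegral _)
    obtain ⟨r, hr, hri⟩ : ∃ r : R, r ≠ 0 ∧ IsIntegral R (algebraMap R L r * (e : L)) :=
      ⟨m, nonZeroDivisors.ne_zero m.2, by rwa [Submonoid.smul_def, Algebra.smul_def] at hm⟩
    let b : BI := ⟨⟨_, hri⟩, fun τ => Subtype.ext (by
      show (τ : L ≃ₐ[K] L) (algebraMap R L r * (e : L)) = algebraMap R L r * (e : L)
      have he : (τ : L ≃ₐ[K] L) (e : L) = (e : L) := e.2 τ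
      rw [map_mul, he, IsScalarTower.algebraMap_apply R K L, AlgEquiv.commutes])⟩
    exact ⟨r, hr, b, Subtype.ext rfl⟩

/-- An inertia-fixed point of a model with the Néron property specialises into the special fibre. -/
theorem exists_specializes {W : ValuationSubring Ω} (hW : SGA7.LiesOver K R W)
    (N : Over (Spec (CommRingCat.of R))) [LocallyOfFiniteType N.hom]
    (hN : ∀ Y : Over (Spec (CommRingCat.of R)), Smooth Y.hom →
      Function.Bijective (fun g : Y ⟶ N => (SGA7.genFib R K).map g))
    (x : SGA7.Pts Ω ((SGA7.genFib R K).obj N))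
    (hfix : ∀ σ : Ω ≃ₐ[K] Ω, SGA7.IsInertia W σ → SGA7.galAct σ x = x) :
    ∃ z : N.left, N.hom.base z = closedPoint R ∧
      (x.left ≫ pullback.fst N.hom (Spec.map (CommRingCat.ofHom (algebraMap R K)))).base (closedPoint Ω) ⤳ z := by
  haveI : LocallyOfFiniteType ((SGA7.genFib R K).obj N).hom :=
    MorphismProperty.pullback_snd N.hom _ inferInstance
  obtain ⟨L, _, _, _, v, hv, hvx⟩ := exists_factor R K Ω hW _ x hfix
  obtain ⟨A, _, _, f, a₀, het, hf, hs₀, ha₀⟩ := exists_model R K Ω L
  obtain ⟨z, hz, hs⟩ := exists_specializes_of_model R K Ω het f hf hs₀ a₀ ha₀ _ N hN v hv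
  refine ⟨z, hz, ?_⟩
  rw [← hvx, Category.assoc]
  exact hs

end Groth.Agent.H28SGA7.Unram
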